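import Mathlib.Data.Finsupp.Basic
import Mathlib.Data.Nat.Factorial.BigOperators
import Mathlib.Combinatorics.Enumerative.Bell
import Mathlib.Algebra.BigOperators.Finsupp.Basic
import Mathlib.Algebra.Order.BigOperators.Group.Finset
import Mathlib.Tactic.Ring
import Mathlib.Data.Finsupp.SMul

universe u v

namespace DPowPoly

open Nat Finset

variable {Λ : Type u}

/-- `e! = ∏ eᵢ!` -/
def fe (e : Λ →₀ ℕ) : ℕ := e.prod fun _ k => k !

theorem fe_eq_prod (e : Λ →₀ ℕ) {s : Finset Λ} (h : e.support ⊆ s) : fe e = ∏ i ∈ s, (e i)! :=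
  Finsupp.prod_of_support_subset e h _ fun _ _ => rfl

theorem fe_pos (e : Λ →₀ ℕ) : 0 < fe e := Finset.prod_pos fun _ _ => Nat.factorial_pos _

theorem fe_zero : fe (0 : Λ →₀ ℕ) = 1 := rfl

theorem support_nsmul (m : ℕ) (e : Λ →₀ ℕ) : (m • e).support ⊆ e.support := by
  intro i hi
  simp only [Finsupp.mem_support_iff, Finsupp.smul_apply, smul_eq_mul] at hi ⊢
  exact right_ne_zero_of_mul hi

theorem bin_dvd (e f : Λ →₀ ℕ) : fe e * fe f ∣ fe (e + f) := by
  classical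
  rw [fe_eq_prod e (s := e.support ∪ f.support) Finset.subset_union_left,
    fe_eq_prod f (s := e.support ∪ f.support) Finset.subset_union_right,
    fe_eq_prod (e + f) (s := e.support ∪ f.support) Finsupp.support_add, ← Finset.prod_mul_distrib]
  exact Finset.prod_dvd_prod_of_dvd _ _ fun i _ => Nat.factorial_mul_factorial_dvd_factorial_add _ _

noncomputable def bin (e f : Λ →₀ ℕ) : ℕ := fe (e + f) / (fe e * fe f)

theorem bin_mul (e f : Λ →₀ ℕ) : bin e f * (fe e * fe f) = fe (e + f) :=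
  Nat.div_mul_cancel (bin_dvd e f)

theorem bin_eq_prod (e f : Λ →₀ ℕ) {s : Finset Λ} (he : e.support ⊆ s) (hf : f.support ⊆ s) :
    bin e f = ∏ i ∈ s, (e i + f i).choose (e i) := by
  classical
  have hs : (e + f).support ⊆ s :=
    Finsupp.support_add.trans (Finset.union_subset he hf)
  refine Nat.eq_of_mul_eq_mul_right (Nat.mul_pos (fe_pos e) (fe_pos f)) ?_
  rw [bin_mul, fe_eq_prod e he, fe_eq_prod f hf, fe_eq_prod (e + f) hs, ← Finset.prod_mul_distrib,
    ← Finset.prod_mul_distrib]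
  refine Finset.prod_congr rfl fun i _ => ?_
  rw [Finsupp.add_apply, ← mul_assoc, Nat.choose_symm_add, Nat.add_choose_mul_factorial_mul_factorial]

theorem cf_dvd (m : ℕ) {e : Λ →₀ ℕ} (he : e ≠ 0) : m ! * fe e ^ m ∣ fe (m • e) := by
  classical
  obtain ⟨i, hi⟩ := Finsupp.support_nonempty_iff.mpr he
  rw [fe_eq_prod e subset_rfl, fe_eq_prod (m • e) (support_nsmul m e), ← Finset.prod_pow,
    ← Finset.mul_prod_erase _ _ hi, ← Finset.mul_prod_erase _ (fun j => ((m • e) j)!) hi,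
    ← mul_assoc]
  refine mul_dvd_mul ⟨Nat.uniformBell m (e i), ?_⟩ (Finset.prod_dvd_prod_of_dvd _ _ fun j _ => ?_)
  · rw [Finsupp.smul_apply, smul_eq_mul, ← Nat.uniformBell_mul_eq m (Finsupp.mem_support_iff.mp hi)]
    ring
  · simpa using Nat.prod_factorial_dvd_factorial_sum (Finset.range m) (fun _ => e j)

/-- `γ_m (x^[e]) = cf e m • x^[m e]` -/
noncomputable def cf (e : Λ →₀ ℕ) (m : ℕ) : ℕ := fe (m • e) / (m ! * fe e ^ m)

theorem cf_mul {e : Λ →₀ ℕ} (he : e ≠ 0) (m : ℕ) : cf e m * (m ! * fe e ^ m) = fe (m • e) :=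
  Nat.div_mul_cancel (cf_dvd m he)

theorem cf_zero_right (e : Λ →₀ ℕ) : cf e 0 = 1 := by simp [cf, fe_zero]

theorem cf_one_right (e : Λ →₀ ℕ) : cf e 1 = 1 := by
  simp [cf, Nat.div_self (fe_pos e)]

theorem cf_mul_cf {e : Λ →₀ ℕ} (he : e ≠ 0) (m n : ℕ) :
    cf e m * cf e n * bin (m • e) (n • e) = (m + n).choose m * cf e (m + n) := by
  refine Nat.eq_of_mul_eq_mul_right (Nat.mul_pos (Nat.mul_pos (Nat.factorial_pos m)
    (Nat.factorial_pos n)) (Nat.pow_pos (n := m + n) (fe_pos e))) ?_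
  calc cf e m * cf e n * bin (m • e) (n • e) * (m ! * n ! * fe e ^ (m + n))
      = bin (m • e) (n • e) * ((cf e m * (m ! * fe e ^ m)) * (cf e n * (n ! * fe e ^ n))) := by ring
    _ = fe ((m + n) • e) := by rw [cf_mul he, cf_mul he, bin_mul, add_smul]
    _ = cf e (m + n) * ((m + n)! * fe e ^ (m + n)) := (cf_mul he _).symm
    _ = cf e (m + n) * ((m + n).choose m * m ! * n ! * fe e ^ (m + n)) := by
        rw [Nat.choose_symm_add, Nat.add_choose_mul_factorial_mul_factorial]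
    _ = _ := by ring

theorem cf_cf {e : Λ →₀ ℕ} (he : e ≠ 0) (m : ℕ) {n : ℕ} (hn : n ≠ 0) :
    cf e n ^ m * cf (n • e) m = Nat.uniformBell m n * cf e (m * n) := by
  have hne : n • e ≠ 0 := smul_ne_zero hn he
  refine Nat.eq_of_mul_eq_mul_right (Nat.mul_pos (Nat.mul_pos (Nat.factorial_pos m)
    (Nat.pow_pos (n := m) (Nat.factorial_pos n))) (Nat.pow_pos (n := n * m) (fe_pos e))) ?_
  calc cf e n ^ m * cf (n • e) m * (m ! * n ! ^ m * fe e ^ (n * m))
      = cf (n • e) m * (m ! * (cf e n * (n ! * fe e ^ n)) ^ m) := by ring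
    _ = fe ((m * n) • e) := by rw [cf_mul he, cf_mul hne, mul_smul]
    _ = cf e (m * n) * ((m * n)! * fe e ^ (m * n)) := (cf_mul he _).symm
    _ = cf e (m * n) * (Nat.uniformBell m n * n ! ^ m * m ! * fe e ^ (m * n)) := by
        rw [Nat.uniformBell_mul_eq m hn]
    _ = _ := by ring

/-- the coefficient of `(x^[f])^m` -/
noncomputable def pw (f : Λ →₀ ℕ) : ℕ → ℕ
  | 0 => 1
  | m + 1 => pw f m * bin (m • f) f

theorem pw_mul (f : Λ →₀ ℕ) : ∀ m, pw f m * fe f ^ m = fe (m • f)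
  | 0 => by simp [pw, fe_zero]
  | m + 1 => by
    rw [pw, succ_nsmul, ← bin_mul (m • f) f, ← pw_mul f m]
    ring

theorem cf_add {e : Λ →₀ ℕ} (he : e ≠ 0) (f : Λ →₀ ℕ) (m : ℕ) :
    bin f e ^ m * cf (f + e) m = pw f m * cf e m * bin (m • f) (m • e) := by
  have hne : f + e ≠ 0 := fun h => he (by
    ext i
    have := DFunLike.congr_fun h i
    simp at this ⊢
    omega)
  refine Nat.eq_of_mul_eq_mul_right (Nat.mul_pos (Nat.factorial_pos m)
    (Nat.pow_pos (n := m) (Nat.mul_pos (fe_pos f) (fe_pos e)))) ?_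
  calc bin f e ^ m * cf (f + e) m * (m ! * (fe f * fe e) ^ m)
      = cf (f + e) m * (m ! * (bin f e * (fe f * fe e)) ^ m) := by ring
    _ = fe (m • f + m • e) := by rw [bin_mul, cf_mul hne, smul_add]
    _ = bin (m • f) (m • e) * ((pw f m * fe f ^ m) * (cf e m * (m ! * fe e ^ m))) := by
        rw [pw_mul, cf_mul he, bin_mul]
    _ = _ := by ring

end DPowPoly
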