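import Mathlib.RingTheory.AdicCompletion.Algebra
import Mathlib.RingTheory.DividedPowers.DPMorphism
import Mathlib.Tactic.LinearCombination

universe u

namespace DPowPoly

open AdicCompletion Finset

variable {A : Type u} [CommRing A] (p : A)

local notation "P" => Ideal.span {(p : A)}

theorem evalₐ_compat {m n : ℕ} (h : m ≤ n) (z : AdicCompletion P A) :
    Ideal.Quotient.factor (Ideal.pow_le_pow_right h) (evalₐ P n z) = evalₐ P m z := by
  obtain ⟨f, rfl⟩ := AdicCompletion.mk_surjective P A z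
  rw [evalₐ_mk, evalₐ_mk, Ideal.Quotient.factor_mk]
  exact Ideal.mk_eq_mk _ h f

theorem exists_dividedPowers_completion {I : Ideal A} (γ : DividedPowers I) (t : ℕ) (ht : P ^ t ≤ I) :
    Function.Surjective ((Ideal.Quotient.factor ht).comp (evalₐ P t).toRingHom) ∧
    ∃ δ : DividedPowers (RingHom.ker ((Ideal.Quotient.factor ht).comp (evalₐ P t).toRingHom)),
      γ.IsDPMorphism δ (algebraMap A (AdicCompletion P A)) := by
  classical
  set q := (Ideal.Quotient.factor ht).comp (evalₐ P t).toRingHom with hq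
  refine ⟨(Ideal.Quotient.factor_surjective ht).comp (surjective_evalₐ P t), ?_⟩
  have hqapp : ∀ z, q z = Ideal.Quotient.factor ht (evalₐ P t z) := fun _ => rfl
  have hlift : ∀ (k : ℕ) (z : AdicCompletion P A), ∃ a : A,
      evalₐ P (k + t) z = Ideal.Quotient.mk _ a ∧ (z ∈ RingHom.ker q → a ∈ I) := by
    intro k z
    obtain ⟨a, ha⟩ := Ideal.Quotient.mk_surjective (evalₐ P (k + t) z)
    refine ⟨a, ha.symm, fun hz => ?_⟩
    rw [RingHom.mem_ker, hqapp, ← evalₐ_compat p (Nat.le_add_left t k) z, ← ha,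
      Ideal.Quotient.factor_mk, Ideal.Quotient.factor_mk, Ideal.Quotient.eq_zero_iff_mem] at hz
    exact hz
  have hcont : ∀ (n k : ℕ) (a a' : A), a ∈ I → a' ∈ I → a - a' ∈ P ^ (k + t) →
      γ.dpow n a - γ.dpow n a' ∈ P ^ k := by
    intro n k a a' ha ha' hd
    rw [Ideal.span_singleton_pow] at hd ⊢
    obtain ⟨c, hc⟩ := Ideal.mem_span_singleton'.mp hd
    have hy : p ^ t * c ∈ I := I.mul_mem_right _
      (ht (by rw [Ideal.span_singleton_pow]; exact Ideal.mem_span_singleton_self _))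
    have hz : p ^ k * (p ^ t * c) = a - a' := by rw [← hc, pow_add]; ring
    have e : a = p ^ k * (p ^ t * c) + a' := by rw [hz]; ring
    rw [e, γ.dpow_add (I.mul_mem_left _ hy) ha', Finset.Nat.sum_antidiagonal_eq_sum_range_succ
      (fun i j => γ.dpow i (p ^ k * (p ^ t * c)) * γ.dpow j a'), Finset.sum_range_succ',
      γ.dpow_zero (I.mul_mem_left _ hy), one_mul, Nat.sub_zero, add_sub_cancel_right]
    refine sum_mem fun i _ => ?_
    rw [γ.dpow_mul hy, pow_succ', mul_assoc, mul_assoc]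
    exact Ideal.mul_mem_right _ _ (Ideal.mem_span_singleton_self _)
  have hmkeq : ∀ {k : ℕ} {a b : A}, Ideal.Quotient.mk (P ^ k) a = Ideal.Quotient.mk (P ^ k) b →
      a - b ∈ P ^ k := fun h => Ideal.Quotient.eq.mp h
  let lf : AdicCompletion P A → ℕ → A := fun z k => (hlift k z).choose
  have hlf : ∀ z k, evalₐ P (k + t) z = Ideal.Quotient.mk _ (lf z k) := fun z k =>
    (hlift k z).choose_spec.1
  have hlfI : ∀ z k, z ∈ RingHom.ker q → lf z k ∈ I := fun z k => (hlift k z).choose_spec.2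
  have hstep : ∀ z k, lf z k - lf z (k + 1) ∈ P ^ (k + t) := fun z k => hmkeq (by
    rw [← hlf, ← evalₐ_compat p (show k + t ≤ k + 1 + t by omega) z, hlf, Ideal.Quotient.factor_mk])
  let d : ℕ → AdicCompletion P A → AdicCompletion P A := fun n z =>
    if hz : z ∈ RingHom.ker q then
      AdicCompletion.mk P A (AdicCauchySequence.mk P A (fun k => γ.dpow n (lf z k)) fun k => by
        rw [SModEq.sub_mem, Ideal.smul_eq_mul, Ideal.mul_top]
        exact hcont n k _ _ (hlfI z k hz) (hlfI z (k + 1) hz) (hstep z k))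
    else 0
  have key : ∀ {z}, z ∈ RingHom.ker q → ∀ (n k : ℕ) (a : A), a ∈ I →
      evalₐ P (k + t) z = Ideal.Quotient.mk _ a → evalₐ P k (d n z) = Ideal.Quotient.mk _ (γ.dpow n a) := by
    intro z hz n k a ha he
    simp only [d, dif_pos hz]
    rw [evalₐ_mk]
    refine Ideal.Quotient.eq.mpr (hcont n k _ _ (hlfI z k hz) ha (hmkeq ?_))
    rw [← hlf, he]
  have get : ∀ {z}, z ∈ RingHom.ker q → ∀ k, ∃ a ∈ I,
      evalₐ P (k + t) z = Ideal.Quotient.mk _ a := fun {z} hz k =>
    ⟨_, hlfI z k hz, hlf z k⟩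
  have down : ∀ {z k} {a : A}, evalₐ P (k + t) z = Ideal.Quotient.mk _ a →
      evalₐ P k z = Ideal.Quotient.mk _ a := fun {z k a} h => by
    rw [← evalₐ_compat p (Nat.le_add_right k t) z, h, Ideal.Quotient.factor_mk]
  have hmem : ∀ {n z}, n ≠ 0 → z ∈ RingHom.ker q → d n z ∈ RingHom.ker q := by
    intro n z hn hz
    obtain ⟨a, ha, he⟩ := get hz t
    rw [RingHom.mem_ker, hqapp, key hz n t a ha he, Ideal.Quotient.factor_mk,
      Ideal.Quotient.eq_zero_iff_mem]
    exact γ.dpow_mem hn ha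
  refine ⟨{ dpow := d, dpow_null := fun {n x} h => dif_neg h, dpow_zero := ?_, dpow_one := ?_,
            dpow_mem := hmem, dpow_add := ?_, dpow_mul := ?_, mul_dpow := ?_, dpow_comp := ?_ }, ?_⟩
  · intro z hz
    refine ext_evalₐ fun k => ?_
    obtain ⟨a, ha, he⟩ := get hz k
    rw [key hz 0 k a ha he, γ.dpow_zero ha, map_one, map_one]
  · intro z hz
    refine ext_evalₐ fun k => ?_
    obtain ⟨a, ha, he⟩ := get hz k
    rw [key hz 1 k a ha he, γ.dpow_one ha, down he]
  · intro n x y hx hy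
    refine ext_evalₐ fun k => ?_
    obtain ⟨a, ha, hea⟩ := get hx k
    obtain ⟨b, hb, heb⟩ := get hy k
    rw [key (add_mem hx hy) n k (a + b) (add_mem ha hb) (by rw [map_add, hea, heb, map_add]),
      γ.dpow_add ha hb, map_sum, map_sum]
    refine Finset.sum_congr rfl fun i _ => ?_
    rw [map_mul, map_mul, key hx i.1 k a ha hea, key hy i.2 k b hb heb]
  · intro n c x hx
    refine ext_evalₐ fun k => ?_
    obtain ⟨a, ha, hea⟩ := get hx k
    obtain ⟨c0, hc0⟩ := Ideal.Quotient.mk_surjective (evalₐ P (k + t) c)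
    rw [key (Ideal.mul_mem_left _ c hx) n k (c0 * a) (I.mul_mem_left _ ha)
      (by rw [map_mul, hea, ← hc0, map_mul]), γ.dpow_mul ha, map_mul, map_mul, map_pow, map_pow,
      key hx n k a ha hea, down hc0.symm]
  · intro m n x hx
    refine ext_evalₐ fun k => ?_
    obtain ⟨a, ha, hea⟩ := get hx k
    rw [map_mul, key hx m k a ha hea, key hx n k a ha hea, ← map_mul, γ.mul_dpow ha, map_mul,
      map_mul, map_natCast, map_natCast, key hx (m + n) k a ha hea]
  · intro m n x hn hx
    refine ext_evalₐ fun k => ?_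
    obtain ⟨a, ha, hea⟩ := get hx (k + t)
    rw [key (hmem hn hx) m k (γ.dpow n a) (γ.dpow_mem hn ha) (key hx n (k + t) a ha hea),
      γ.dpow_comp hn ha, map_mul, map_mul, map_natCast, map_natCast, key hx (m * n) k a ha (down hea)]
  · have himg : ∀ a : A, ∀ k, evalₐ P k (algebraMap A (AdicCompletion P A) a) =
        Ideal.Quotient.mk _ a := fun a k => AlgHom.commutes _ a
    have hker : ∀ a ∈ I, algebraMap A (AdicCompletion P A) a ∈ RingHom.ker q := fun a ha => by
      rw [RingHom.mem_ker, hqapp, himg, Ideal.Quotient.factor_mk, Ideal.Quotient.eq_zero_iff_mem]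
      exact ha
    refine ⟨Ideal.map_le_iff_le_comap.mpr hker, fun {n} a ha => ext_evalₐ fun k => ?_⟩
    show evalₐ P k (d n _) = _
    rw [key (hker a ha) n k a ha (himg a _), himg]

end DPowPoly
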