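import Groth.Agent.DPowPoly.Univ
import Mathlib.RingTheory.DividedPowers.SubDPIdeal
import Mathlib.LinearAlgebra.Dimension.Finrank
import Mathlib.RingTheory.MvPolynomial.Basic

universe u

namespace DPowPoly

open MvPolynomial

theorem exists_envelope {A B : Type u} [CommRing A] [CommRing B] [Algebra A B] {I : Ideal A}
    (γ : DividedPowers I) (J : Ideal B) (hIJ : I.map (algebraMap A B) ≤ J) :
    ∃ (D : Type u) (_ : CommRing D) (_ : Algebra B D) (JD : Ideal D) (γD : DividedPowers JD),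
      J.map (algebraMap B D) ≤ JD ∧
      γ.IsDPMorphism γD ((algebraMap B D).comp (algebraMap A B)) ∧
      ∀ (C : Type u) [CommRing C] [Algebra A C] (K : Ideal C) (δ : DividedPowers K),
        γ.IsDPMorphism δ (algebraMap A C) →
        ∀ ψ : B →ₐ[A] C, J.map ψ ≤ K →
          ∃! χ : D →+* C, χ.comp (algebraMap B D) = ψ ∧ γD.IsDPMorphism δ χ := by
  classical
  let R1 := MvPolynomial B A
  have hfree : Module.Free A R1 := Module.Free.of_basis (MvPolynomial.basisMonomials B A)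
  obtain ⟨γ1, hγ1⟩ := exists_extension_of_flat (B := R1) γ
  obtain ⟨P, _, _, x, b, hx0, hxmul, hb⟩ := exists_dpAlgebra J R1
  obtain ⟨γp, hγp, -⟩ := existsUnique_dividedPowers hx0 hxmul b hb
  obtain ⟨δ0, ⟨hδ1, hδ2⟩, -⟩ := existsUnique_compatible hx0 hxmul b hb γ1 γp
  let JP := (I.map (algebraMap A R1)).map (algebraMap R1 P) ⊔ augIdeal x
  let ε1 : R1 →ₐ[A] B := MvPolynomial.aeval (id : B → B)
  let gens : Set P := algebraMap R1 P '' (RingHom.ker ε1.toRingHom : Set R1) ∪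
    Set.range fun j : J => algebraMap R1 P (X (j : B)) - x j 1
  let 𝔠 : Ideal P := sInf {c : Ideal P | gens ⊆ c ∧
    ∀ z ∈ c, z ∈ JP → ∀ n, n ≠ 0 → δ0.dpow n z ∈ c}
  have hgens : gens ⊆ 𝔠 := fun z hz => Submodule.mem_sInf.mpr fun c hc => hc.1 hz
  have hclosed : δ0.IsSubDPIdeal (𝔠 ⊓ JP) := by
    refine ⟨inf_le_right, fun n hn {z} hz => ⟨?_, δ0.dpow_mem hn hz.2⟩⟩
    exact Submodule.mem_sInf.mpr fun c hc =>
      hc.2 z (Submodule.mem_sInf.mp hz.1 c hc) hz.2 n hn
  let mk := Ideal.Quotient.mk 𝔠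
  have hsurj : Function.Surjective ε1.toRingHom := fun y => ⟨X y, MvPolynomial.aeval_X _ y⟩
  have hker : RingHom.ker ε1.toRingHom ≤ RingHom.ker (mk.comp (algebraMap R1 P)) := fun r hr =>
    Ideal.Quotient.eq_zero_iff_mem.mpr (hgens (Or.inl ⟨r, hr, rfl⟩))
  let g : B →+* P ⧸ 𝔠 := (ε1.toRingHom.liftOfRightInverse (Function.surjInv hsurj)
    (Function.rightInverse_surjInv hsurj)) ⟨_, hker⟩
  have hg : ∀ r, g (ε1 r) = mk (algebraMap R1 P r) := fun r =>
    RingHom.liftOfRightInverse_comp_apply ε1.toRingHom _ _ _ r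
  letI algD : Algebra B (P ⧸ 𝔠) := g.toAlgebra
  refine ⟨P ⧸ 𝔠, inferInstance, algD, JP.map mk, DividedPowers.Quotient.dividedPowers δ0 hclosed,
    ?_, ?_, ?_⟩
  · rw [Ideal.map_le_iff_le_comap]
    intro j hj
    have e : g j = mk (x ⟨j, hj⟩ 1) := by
      have e2 := hg (X j)
      rw [show ε1 (X j) = j from MvPolynomial.aeval_X _ _] at e2
      rw [e2, Ideal.Quotient.eq]
      exact hgens (Or.inr ⟨⟨j, hj⟩, rfl⟩)
    show g j ∈ JP.map mk
    rw [e]
    exact Ideal.mem_map_of_mem _ (Ideal.mem_sup_right (Ideal.subset_span ⟨_, 1, le_rfl, rfl⟩))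
  · have e : (g.comp (algebraMap A B)) = mk.comp ((algebraMap R1 P).comp (algebraMap A R1)) := by
      ext a
      show g (algebraMap A B a) = mk (algebraMap R1 P (algebraMap A R1 a))
      rw [← ε1.commutes a, hg]
    show γ.IsDPMorphism _ (g.comp (algebraMap A B))
    rw [e]
    exact (DividedPowers.Quotient.isDPMorphism δ0 hclosed).comp _ (hδ1.comp _ hγ1)
  · intro C _ _ K δ hδ ψ hψ
    let ψ1 : R1 →ₐ[A] C := ψ.comp ε1
    letI : Algebra R1 C := ψ1.toRingHom.toAlgebra
    have hψ1 : γ1.IsDPMorphism δ (algebraMap R1 C) := by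
      refine DividedPowers.IsDPMorphism.on_span γ1 δ (S := algebraMap A R1 '' (I : Set A)) rfl ?_
        (fun {n} z hz => ?_)
      · rintro _ ⟨a, ha, rfl⟩
        show ψ1 (algebraMap A R1 a) ∈ K
        rw [AlgHom.commutes]; exact hδ.ideal_comp (Ideal.mem_map_of_mem _ ha)
      · obtain ⟨a, ha, rfl⟩ := hz
        show ψ1 (γ1.dpow n (algebraMap A R1 a)) = δ.dpow n (ψ1 (algebraMap A R1 a))
        rw [hγ1.dpow_comp _ ha, AlgHom.commutes, AlgHom.commutes, hδ.dpow_comp _ ha]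
    have hk : ∀ j : J, ψ (j : B) ∈ K := fun j => hψ (Ideal.mem_map_of_mem _ j.2)
    obtain ⟨φ, ⟨hφ1, hφ2⟩, huniq⟩ :=
      existsUnique_algHom hx0 hxmul b hb γp hγp C δ (fun j : J => ψ (j : B)) hk
    have hmor : δ0.IsDPMorphism δ φ.toRingHom := by
      refine DividedPowers.IsDPMorphism.on_span δ0 δ
        (S := algebraMap R1 P '' (I.map (algebraMap A R1) : Set R1) ∪
          {y : P | ∃ (l : J) (n : ℕ), 1 ≤ n ∧ y = x l n}) ?_ ?_ (fun {n} z hz => ?_)
      · rw [Ideal.span_union]; rfl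
      · rintro _ (⟨a, ha, rfl⟩ | ⟨l, n, hn, rfl⟩)
        · show φ (algebraMap R1 P a) ∈ K
          rw [AlgHom.commutes]
          exact hψ1.ideal_comp (Ideal.mem_map_of_mem _ ha)
        · exact hφ1.ideal_comp (Ideal.mem_map_of_mem _ (Ideal.subset_span ⟨l, n, hn, rfl⟩))
      · obtain (⟨a, ha, rfl⟩ | ⟨l, m, hm, rfl⟩) := hz
        · show φ (δ0.dpow n (algebraMap R1 P a)) = δ.dpow n (φ (algebraMap R1 P a))
          rw [hδ1.dpow_comp _ ha, AlgHom.commutes, AlgHom.commutes, hψ1.dpow_comp _ ha]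
        · have hm' : x l m ∈ augIdeal x := Ideal.subset_span ⟨l, m, hm, rfl⟩
          rw [hδ2 _ _ hm']
          exact (hφ1.dpow_comp _ hm').symm
    have hle : 𝔠 ≤ RingHom.ker φ.toRingHom := by
      refine sInf_le ⟨?_, fun z hz hzJ n hn => ?_⟩
      · rintro _ (⟨r, hr, rfl⟩ | ⟨j, rfl⟩)
        · show φ (algebraMap R1 P r) = 0
          rw [AlgHom.commutes]
          show ψ (ε1 r) = 0
          rw [show ε1 r = 0 from hr, map_zero]
        · show φ (algebraMap R1 P (X (j : B)) - x j 1) = 0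
          rw [map_sub, AlgHom.commutes, hφ2]
          show ψ (ε1 (X (j : B))) - ψ j = 0
          rw [show ε1 (X (j : B)) = (j : B) from MvPolynomial.aeval_X _ _, sub_self]
      · show φ.toRingHom (δ0.dpow n z) = 0
        rw [← hmor.dpow_comp _ hzJ, RingHom.mem_ker.mp hz, δ.dpow_eval_zero hn]
    let χ := Ideal.Quotient.lift 𝔠 φ.toRingHom fun a ha => hle ha
    have hχ : ∀ a, χ (mk a) = φ a := fun a => rfl
    refine ⟨χ, ⟨?_, ?_⟩, fun χ' ⟨hc, hm⟩ => ?_⟩
    · ext y
      obtain ⟨r, rfl⟩ := hsurj y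
      show χ (g (ε1 r)) = ψ (ε1 r)
      rw [hg, hχ, AlgHom.commutes]
      rfl
    · refine DividedPowers.IsDPMorphism.on_span _ δ (S := mk '' (JP : Set P)) ?_ ?_ (fun {n} z hz => ?_)
      · rfl
      · rintro _ ⟨a, ha, rfl⟩
        rw [hχ]; exact hmor.ideal_comp (Ideal.mem_map_of_mem _ ha)
      · obtain ⟨a, ha, rfl⟩ := hz
        rw [DividedPowers.Quotient.dpow_apply δ0 hclosed ha, hχ, hχ]
        exact (hmor.dpow_comp _ ha).symm
    · refine Ideal.Quotient.ringHom_ext (RingHom.ext fun a => ?_)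
      let ψP : P →ₐ[R1] C :=
        { χ'.comp mk with
          commutes' := fun r => by
            show χ' (mk (algebraMap R1 P r)) = ψ (ε1 r)
            rw [← hg]
            exact RingHom.congr_fun hc (ε1 r) }
      have hψP : γp.IsDPMorphism δ ψP.toRingHom := by
        have h := hm.comp _ (DividedPowers.Quotient.isDPMorphism δ0 hclosed)
        refine ⟨(Ideal.map_mono le_sup_right).trans h.ideal_comp, fun {n} z hz => ?_⟩
        rw [← hδ2 n z hz]
        exact h.dpow_comp z (Ideal.mem_sup_right hz)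
      have : ψP = φ := huniq ψP ⟨hψP, fun j => by
        show χ' (mk (x j 1)) = ψ j
        have e : mk (x j 1) = g (j : B) := by
          have e2 := hg (X (j : B))
          rw [show ε1 (X (j : B)) = (j : B) from MvPolynomial.aeval_X _ _] at e2
          rw [e2, eq_comm, Ideal.Quotient.eq]
          exact hgens (Or.inr ⟨j, rfl⟩)
        rw [e]
        exact RingHom.congr_fun hc (j : B)⟩
      show χ' (mk a) = φ a
      rw [← this]
      rfl

end DPowPoly
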