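import Groth.Agent.DPowLib.Gens
import Mathlib.RingTheory.DividedPowers.DPMorphism
import Mathlib.RingTheory.PowerSeries.Substitution
import Mathlib.LinearAlgebra.TensorProduct.Basic

universe u v

namespace DPowPoly

open PowerSeries Finset

variable {B : Type u} [CommRing B]

def IsExp (E : B⟦X⟧) : Prop := ∀ a b : B, rescale (a + b) E = rescale a E * rescale b E

theorem isExp_mk (g : ℕ → B) (h : ∀ i j, g i * g j = ((i + j).choose i : ℕ) * g (i + j)) :
    IsExp (PowerSeries.mk g) := by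
  intro a b
  ext n
  rw [coeff_rescale, coeff_mk, coeff_mul, (Commute.all a b).add_pow', Finset.sum_mul]
  refine Finset.sum_congr rfl fun k hk => ?_
  rw [Finset.mem_antidiagonal] at hk
  rw [coeff_rescale, coeff_rescale, coeff_mk, coeff_mk, nsmul_eq_mul, ← hk]
  linear_combination (-(a ^ k.1 * b ^ k.2)) * h k.1 k.2

theorem IsExp.rescale {E : B⟦X⟧} (h : IsExp E) (c : B) : IsExp (rescale c E) := by
  intro a b
  rw [rescale_rescale, rescale_rescale, rescale_rescale, mul_add, h]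

theorem IsExp.mul {E F : B⟦X⟧} (hE : IsExp E) (hF : IsExp F) : IsExp (E * F) := by
  intro a b
  rw [map_mul, map_mul, map_mul, hE, hF]; ring

theorem IsExp.one : IsExp (1 : B⟦X⟧) := fun a b => by simp

theorem coeff_one_mul_of_const {E F : B⟦X⟧} (hE : coeff 0 E = 1) (hF : coeff 0 F = 1) :
    coeff 1 (E * F) = coeff 1 E + coeff 1 F := by
  rw [coeff_mul, Finset.Nat.sum_antidiagonal_eq_sum_range_succ (fun i j => coeff i E * coeff j F)]
  simp [Finset.sum_range_succ, hE, hF, -coeff_zero_eq_constantCoeff]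
  ring

theorem coeff_mul_mem {J : Ideal B} {E F : B⟦X⟧} (hE : ∀ n, n ≠ 0 → coeff n E ∈ J)
    (hF : ∀ n, n ≠ 0 → coeff n F ∈ J) {n : ℕ} (hn : n ≠ 0) : coeff n (E * F) ∈ J := by
  rw [coeff_mul]
  refine sum_mem fun k hk => ?_
  rw [Finset.mem_antidiagonal] at hk
  rcases Nat.eq_zero_or_pos k.1 with h | h
  · exact J.mul_mem_left _ (hF _ (by omega))
  · exact J.mul_mem_right _ (hE _ (by omega))

/-- Divided powers from an exponential map given on an ideal and checked on generators. -/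
theorem exists_of_series {J : Ideal B} (S : Set B) (hS : Ideal.span S = J) (Φ : B → B⟦X⟧)
    (h0 : ∀ z ∈ J, coeff 0 (Φ z) = 1) (h1 : ∀ z ∈ J, coeff 1 (Φ z) = z)
    (hmem : ∀ z ∈ J, ∀ n, n ≠ 0 → coeff n (Φ z) ∈ J)
    (hadd : ∀ x ∈ J, ∀ y ∈ J, Φ (x + y) = Φ x * Φ y)
    (hmul : ∀ a, ∀ x ∈ J, Φ (a * x) = rescale a (Φ x))
    (hSmul : ∀ x ∈ S, ∀ i j, coeff i (Φ x) * coeff j (Φ x) = ((i + j).choose i : ℕ) * coeff (i + j) (Φ x))
    (hScomp : ∀ x ∈ S, ∀ m n, n ≠ 0 →
      coeff m (Φ (coeff n (Φ x))) = (Nat.uniformBell m n : ℕ) * coeff (m * n) (Φ x)) :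
    ∃ γ : DividedPowers J, ∀ n, ∀ x ∈ J, γ.dpow n x = coeff n (Φ x) := by
  classical
  let d : ℕ → B → B := fun n x => if x ∈ J then coeff n (Φ x) else 0
  have hd : ∀ {n x}, x ∈ J → d n x = coeff n (Φ x) := fun hx => if_pos hx
  have hSJ : ∀ {x}, x ∈ S → x ∈ J := fun hx => hS ▸ Ideal.subset_span hx
  obtain ⟨γ, hγ⟩ := Groth.Agent.DPowLib.exists_dividedPowers_of_generators d
    (fun x hx => by rw [hd hx, h0 x hx]) (fun x hx => by rw [hd hx, h1 x hx])
    (fun n x hn hx => by rw [hd hx]; exact hmem x hx n hn)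
    (fun n x y hx hy => by
      rw [hd (add_mem hx hy), hadd x hx y hy, coeff_mul]
      exact Finset.sum_congr rfl fun k _ => by rw [hd hx, hd hy])
    (fun n a x hx => by rw [hd hx, hd (J.mul_mem_left a hx), hmul a x hx, coeff_rescale])
    S hS (fun n x hx => if_neg hx)
    (fun m n x hx => by
      rw [hd (hSJ hx), hd (hSJ hx), hd (hSJ hx)]
      simpa using hSmul x hx m n)
    (fun m n x hn hx => by
      rw [hd (hSJ hx), hd (hmem x (hSJ hx) n hn), hd (hSJ hx)]
      simpa using hScomp x hx m n hn)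
  exact ⟨γ, fun n x hx => by rw [hγ]; exact hd hx⟩

/-- Two divided power structures agreeing on a set agree on the ideal it spans. -/
theorem agree_on_span {J J' : Ideal B} (γ : DividedPowers J) (γ' : DividedPowers J') (S : Set B)
    (hJ : S ⊆ J) (hJ' : S ⊆ J') (h : ∀ x ∈ S, ∀ n, γ.dpow n x = γ'.dpow n x) :
    ∀ x ∈ Ideal.span S, ∀ n, γ.dpow n x = γ'.dpow n x := by
  intro x hx
  have hle : Ideal.span S ≤ J ⊓ J' := Ideal.span_le.mpr fun y hy => ⟨hJ hy, hJ' hy⟩
  induction hx using Submodule.span_induction with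
  | mem y hy => exact h y hy
  | zero =>
    intro n
    rcases eq_or_ne n 0 with rfl | hn
    · rw [γ.dpow_zero J.zero_mem, γ'.dpow_zero J'.zero_mem]
    · rw [γ.dpow_eval_zero hn, γ'.dpow_eval_zero hn]
  | add y z hy hz ihy ihz =>
    intro n
    rw [γ.dpow_add (hle hy).1 (hle hz).1, γ'.dpow_add (hle hy).2 (hle hz).2]
    simp only [ihy, ihz]
  | smul a y hy ih =>
    intro n
    rw [smul_eq_mul, γ.dpow_mul (hle hy).1, γ'.dpow_mul (hle hy).2, ih]

end DPowPoly
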