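import Groth.Agent.DPowPoly.Exp
import Mathlib.RingTheory.Flat.Basic
import Mathlib.RingTheory.TensorProduct.Basic

universe u v

open TensorProduct PowerSeries

namespace DPowPoly

variable {A : Type u} {B : Type v} [CommRing A] [CommRing B] [Algebra A B]

theorem exists_extension_of_injective {I : Ideal A} (γ : DividedPowers I)
    (hinj : Function.Injective (I.subtype.lTensor B)) :
    ∃ δ : DividedPowers (I.map (algebraMap A B)), γ.IsDPMorphism δ (algebraMap A B) := by
  classical
  let μ : B ⊗[A] I → B := fun t => TensorProduct.rid A B (I.subtype.lTensor B t)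
  have μt : ∀ (b : B) (x : I), μ (b ⊗ₜ[A] x) = algebraMap A B x * b := fun b x => by
    simp [μ, Algebra.smul_def]
  have μadd : ∀ s t, μ (s + t) = μ s + μ t := fun s t => by simp [μ]
  have μinj : Function.Injective μ := (TensorProduct.rid A B).injective.comp hinj
  have μsmul : ∀ (c : B) t, μ (c • t) = c * μ t := by
    intro c t
    induction t using TensorProduct.induction_on with
    | zero => simp [μ]
    | tmul b x => rw [TensorProduct.smul_tmul', μt, μt, smul_eq_mul]; ring
    | add s t hs ht => rw [smul_add, μadd, hs, ht, μadd, mul_add]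
  have μsurj : ∀ z ∈ I.map (algebraMap A B), ∃ t, μ t = z := by
    intro z hz
    induction hz using Submodule.span_induction with
    | mem y hy =>
      obtain ⟨a, ha, rfl⟩ := hy
      exact ⟨(1 : B) ⊗ₜ[A] (⟨a, ha⟩ : I), by rw [μt, mul_one]⟩
    | zero => exact ⟨0, by simp [μ]⟩
    | add y w _ _ hy hw =>
      obtain ⟨s, rfl⟩ := hy
      obtain ⟨t, rfl⟩ := hw
      exact ⟨s + t, μadd s t⟩
    | smul c y _ hy =>
      obtain ⟨s, rfl⟩ := hy
      exact ⟨c • s, μsmul c s⟩
  let E : I → B⟦X⟧ := fun x => PowerSeries.map (algebraMap A B) (γ.exp x)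
  have Ecoeff : ∀ (x : I) n, coeff n (E x) = algebraMap A B (γ.dpow n x) := fun x n => by
    simp [E, DividedPowers.exp]
  have hE : ∀ x : I, IsExp (E x) := fun x => by
    have h : E x = PowerSeries.mk fun n => algebraMap A B (γ.dpow n x) := by
      ext n; rw [Ecoeff, coeff_mk]
    rw [h]
    refine isExp_mk _ fun i j => ?_
    rw [← map_mul, γ.mul_dpow x.2, map_mul, map_natCast]
  have Eadd : ∀ x y : I, E (x + y) = E x * E y := fun x y => by
    simp only [E, Submodule.coe_add, γ.exp_add x.2 y.2, map_mul]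
  have Esmul : ∀ (a : A) (x : I), E (a • x) = rescale (algebraMap A B a) (E x) := fun a x => by
    ext n
    rw [Ecoeff, coeff_rescale, Ecoeff, Submodule.coe_smul, smul_eq_mul, γ.dpow_mul x.2, map_mul,
      map_pow]
  have E0 : ∀ x : I, coeff 0 (E x) = 1 := fun x => by rw [Ecoeff, γ.dpow_zero x.2, map_one]
  have E00 : E 0 = 1 := by
    ext n
    rw [Ecoeff, coeff_one]
    rcases eq_or_ne n 0 with rfl | hn
    · rw [γ.dpow_zero (0 : I).2, map_one, if_pos rfl]
    · rw [ZeroMemClass.coe_zero, γ.dpow_eval_zero hn, map_zero, if_neg hn]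
  let f : B →+ I →+ Additive (B⟦X⟧) :=
    { toFun := fun b =>
        { toFun := fun x => Additive.ofMul (rescale b (E x))
          map_zero' := by rw [E00, map_one, ofMul_one]
          map_add' := fun x y => by rw [Eadd, map_mul, ofMul_mul] }
      map_zero' := AddMonoidHom.ext fun x => by
        show Additive.ofMul (rescale 0 (E x)) = 0
        rw [rescale_zero, RingHom.comp_apply, ← coeff_zero_eq_constantCoeff_apply, E0, map_one,
          ofMul_one]
      map_add' := fun b b' => AddMonoidHom.ext fun x => congrArg Additive.ofMul (hE x b b') }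
  let Φ0 : B ⊗[A] I →+ Additive (B⟦X⟧) := TensorProduct.liftAddHom f fun a b x => by
    show Additive.ofMul (rescale (a • b) (E x)) = Additive.ofMul (rescale b (E (a • x)))
    rw [Esmul, rescale_rescale, Algebra.smul_def]
  have Φ0t : ∀ b x, (Φ0 (b ⊗ₜ[A] x)).toMul = rescale b (E x) := fun b x => rfl
  have Φ0add : ∀ s t, (Φ0 (s + t)).toMul = (Φ0 s).toMul * (Φ0 t).toMul := fun s t => by
    rw [map_add]; rfl
  have Φ0zero : (Φ0 0).toMul = 1 := by rw [map_zero]; rfl
  let Φ : B → B⟦X⟧ := fun z => if h : ∃ t, μ t = z then (Φ0 h.choose).toMul else 1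
  have hΦ : ∀ t, Φ (μ t) = (Φ0 t).toMul := fun t => by
    have h : ∃ t', μ t' = μ t := ⟨t, rfl⟩
    simp only [Φ, dif_pos h]
    rw [μinj h.choose_spec]
  have c0 : ∀ t, coeff 0 (Φ0 t).toMul = 1 := by
    intro t
    induction t using TensorProduct.induction_on with
    | zero => rw [Φ0zero]; simp
    | tmul b x => rw [Φ0t, coeff_rescale, pow_zero, one_mul, E0]
    | add s t hs ht =>
      rw [Φ0add]
      simp only [coeff_zero_eq_constantCoeff, map_mul] at hs ht ⊢
      rw [hs, ht, mul_one]
  have c1 : ∀ t, coeff 1 (Φ0 t).toMul = μ t := by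
    intro t
    induction t using TensorProduct.induction_on with
    | zero => rw [Φ0zero]; simp [μ]
    | tmul b x => rw [Φ0t, coeff_rescale, pow_one, Ecoeff, γ.dpow_one x.2, μt, mul_comm]
    | add s t hs ht => rw [Φ0add, coeff_one_mul_of_const (c0 s) (c0 t), hs, ht, μadd]
  have cmem : ∀ t n, n ≠ 0 → coeff n (Φ0 t).toMul ∈ I.map (algebraMap A B) := by
    intro t
    induction t using TensorProduct.induction_on with
    | zero =>
      intro n hn
      rw [Φ0zero, coeff_one, if_neg hn]; exact zero_mem _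
    | tmul b x =>
      intro n hn
      rw [Φ0t, coeff_rescale, Ecoeff]
      exact Ideal.mul_mem_left _ _ (Ideal.mem_map_of_mem _ (γ.dpow_mem hn x.2))
    | add s t hs ht =>
      intro n hn
      rw [Φ0add]
      exact coeff_mul_mem hs ht hn
  have csmul : ∀ (c : B) t, (Φ0 (c • t)).toMul = rescale c (Φ0 t).toMul := by
    intro c t
    induction t using TensorProduct.induction_on with
    | zero => rw [smul_zero, Φ0zero, map_one]
    | tmul b x => rw [TensorProduct.smul_tmul', Φ0t, Φ0t, rescale_rescale, smul_eq_mul, mul_comm]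
    | add s t hs ht => rw [smul_add, Φ0add, hs, ht, Φ0add, map_mul]
  have himg : ∀ (a : A) (ha : a ∈ I) n, coeff n (Φ (algebraMap A B a)) =
      algebraMap A B (γ.dpow n a) := fun a ha n => by
    rw [show algebraMap A B a = μ ((1 : B) ⊗ₜ[A] (⟨a, ha⟩ : I)) by rw [μt, mul_one], hΦ, Φ0t,
      coeff_rescale, one_pow, one_mul, Ecoeff]
  obtain ⟨δ, hδ⟩ := exists_of_series (J := I.map (algebraMap A B)) (algebraMap A B '' (I : Set A)) rfl Φ
    (fun z hz => by obtain ⟨t, rfl⟩ := μsurj z hz; rw [hΦ, c0])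
    (fun z hz => by obtain ⟨t, rfl⟩ := μsurj z hz; rw [hΦ, c1])
    (fun z hz n hn => by obtain ⟨t, rfl⟩ := μsurj z hz; rw [hΦ]; exact cmem t n hn)
    (fun x hx y hy => by
      obtain ⟨s, rfl⟩ := μsurj x hx
      obtain ⟨t, rfl⟩ := μsurj y hy
      rw [← μadd, hΦ, hΦ, hΦ, Φ0add])
    (fun a x hx => by
      obtain ⟨s, rfl⟩ := μsurj x hx
      rw [← μsmul, hΦ, hΦ, csmul])
    (fun x hx i j => by
      obtain ⟨a, ha, rfl⟩ := hx
      rw [himg a ha, himg a ha, himg a ha, ← map_mul, γ.mul_dpow ha, map_mul, map_natCast])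
    (fun x hx m n hn => by
      obtain ⟨a, ha, rfl⟩ := hx
      rw [himg a ha, himg _ (γ.dpow_mem hn ha), himg a ha, γ.dpow_comp hn ha, map_mul, map_natCast])
  refine ⟨δ, ⟨le_rfl, fun {n} a ha => ?_⟩⟩
  rw [hδ n _ (Ideal.mem_map_of_mem _ ha), himg a ha]

theorem exists_extension_of_flat [Module.Flat A B] {I : Ideal A} (γ : DividedPowers I) :
    ∃ δ : DividedPowers (I.map (algebraMap A B)), γ.IsDPMorphism δ (algebraMap A B) :=
  exists_extension_of_injective γ
    (Module.Flat.lTensor_preserves_injective_linearMap _ Subtype.val_injective)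

theorem extension_unique {I : Ideal A} (γ : DividedPowers I)
    (δ δ' : DividedPowers (I.map (algebraMap A B)))
    (h : γ.IsDPMorphism δ (algebraMap A B)) (h' : γ.IsDPMorphism δ' (algebraMap A B)) : δ = δ' := by
  refine DividedPowers.ext δ δ' fun n x hx => ?_
  refine agree_on_span δ δ' (algebraMap A B '' (I : Set A)) Ideal.subset_span Ideal.subset_span
    (fun y hy k => ?_) x hx n
  obtain ⟨a, ha, rfl⟩ := hy
  rw [h.dpow_comp _ ha, h'.dpow_comp _ ha]

end DPowPoly
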