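import Groth.Agent.DPowPoly.Exp
import Groth.Agent.DPowPoly.Bin
import Mathlib.LinearAlgebra.Basis.Basic
import Mathlib.Algebra.Algebra.Basic

universe u v w

namespace DPowPoly

open PowerSeries Finset

variable {Λ : Type w} {P : Type v} [CommRing P]

theorem prod_mul_prod (y : Λ → ℕ → P) (hy0 : ∀ l, y l 0 = 1)
    (hymul : ∀ l n m, y l n * y l m = ((n + m).choose n : P) * y l (n + m)) (e f : Λ →₀ ℕ) :
    e.prod (fun l k => y l k) * f.prod (fun l k => y l k) =
      (bin e f : P) * (e + f).prod (fun l k => y l k) := by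
  classical
  have h0 : ∀ l ∈ e.support ∪ f.support, y l 0 = 1 := fun l _ => hy0 l
  rw [bin_eq_prod e f (s := e.support ∪ f.support) Finset.subset_union_left Finset.subset_union_right,
    Finsupp.prod_of_support_subset e (s := e.support ∪ f.support) Finset.subset_union_left _ h0,
    Finsupp.prod_of_support_subset f (s := e.support ∪ f.support) Finset.subset_union_right _ h0,
    Finsupp.prod_of_support_subset (e + f) (s := e.support ∪ f.support) Finsupp.support_add _ h0,
    Nat.cast_prod, ← Finset.prod_mul_distrib, ← Finset.prod_mul_distrib]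
  exact Finset.prod_congr rfl fun l _ => hymul l _ _

variable {R : Type u} [CommRing R] [Algebra R P] {x : Λ → ℕ → P}
  (hx0 : ∀ l, x l 0 = 1) (hxmul : ∀ l n m, x l n * x l m = ((n + m).choose n : P) * x l (n + m))
  (b : Module.Basis (Λ →₀ ℕ) R P) (hb : ∀ e : Λ →₀ ℕ, b e = e.prod (fun l k => x l k))

variable (x) in
/-- the augmentation ideal -/
abbrev augIdeal : Ideal P := Ideal.span {y : P | ∃ (l : Λ) (n : ℕ), 1 ≤ n ∧ y = x l n}

include hx0 hxmul hb in
theorem b_mul (e f : Λ →₀ ℕ) : b e * b f = (bin e f : P) * b (e + f) := by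
  simp only [hb]; exact prod_mul_prod x hx0 hxmul e f

include hb in
theorem b_zero : b 0 = 1 := by rw [hb, Finsupp.prod_zero_index]

include hx0 hxmul hb in
theorem b_pow (f : Λ →₀ ℕ) : ∀ m : ℕ, b f ^ m = (pw f m : P) * b (m • f)
  | 0 => by simp [pw, b_zero b hb]
  | m + 1 => by
    rw [pow_succ, b_pow f m, mul_assoc, b_mul hx0 hxmul b hb, succ_nsmul, pw, Nat.cast_mul, mul_assoc]

include hx0 hxmul hb in
theorem smul_b_mul (s r : R) (f e : Λ →₀ ℕ) :
    (s • b f) * (r • b e) = (s * r * (bin f e : R)) • b (f + e) := by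
  rw [smul_mul_smul_comm, b_mul hx0 hxmul b hb, mul_smul, ← map_natCast (algebraMap R P),
    ← Algebra.smul_def]
  simp only [smul_smul, mul_assoc]

include hb in
theorem b_single (hx0 : ∀ l, x l 0 = 1) (l : Λ) (n : ℕ) : b (Finsupp.single l n) = x l n := by
  classical
  rw [hb, Finsupp.prod_single_index (hx0 l)]

theorem induction_aug {Q : P → Prop} (h0 : Q 0) (hadd : ∀ y z, Q y → Q z → Q (y + z))
    (hsm : ∀ (r : R) e, e ≠ 0 → Q (r • b e)) (z : P) (hz : b.repr z 0 = 0) : Q z := by
  classical
  rw [← b.linearCombination_repr z, Finsupp.linearCombination_apply, Finsupp.sum]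
  refine Finset.sum_induction _ Q hadd h0 fun e he => hsm _ e ?_
  rintro rfl
  exact Finsupp.mem_support_iff.mp he hz

theorem induction_all {Q : P → Prop} (h0 : Q 0) (hadd : ∀ y z, Q y → Q z → Q (y + z))
    (hsm : ∀ (r : R) e, Q (r • b e)) (z : P) : Q z := by
  classical
  rw [← b.linearCombination_repr z, Finsupp.linearCombination_apply, Finsupp.sum]
  exact Finset.sum_induction _ Q hadd h0 fun e _ => hsm _ e

include hx0 hxmul hb in
theorem mem_aug_iff (z : P) : z ∈ augIdeal x ↔ b.repr z 0 = 0 := by
  classical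
  constructor
  · intro h
    induction h using Submodule.span_induction with
    | mem y hy =>
      obtain ⟨l, n, hn, rfl⟩ := hy
      rw [← b_single b hb hx0, b.repr_self, Finsupp.single_apply, if_neg]
      intro h
      have := DFunLike.congr_fun h l
      simp at this; omega
    | zero => simp
    | add y y' _ _ hy hy' => simp [hy, hy']
    | smul a y _ hy =>
      refine induction_aug b (Q := fun y => b.repr (a • y) 0 = 0) (by simp)
        (fun u u' h h' => by rw [smul_add, map_add, Finsupp.add_apply, h, h', add_zero]) ?_ y hy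
      intro r e he
      refine induction_all b (Q := fun a => b.repr (a • r • b e) 0 = 0) (by simp)
        (fun u u' h h' => by rw [add_smul, map_add, Finsupp.add_apply, h, h', add_zero]) ?_ a
      intro s f
      have hne : f + e ≠ 0 := fun h => he (by
        ext i
        have := DFunLike.congr_fun h i
        simp at this ⊢
        omega)
      rw [smul_eq_mul, smul_b_mul hx0 hxmul b hb, map_smul, b.repr_self, Finsupp.smul_apply,
        Finsupp.single_apply, if_neg hne, smul_zero]
  · intro h
    refine induction_aug b (Q := fun z => z ∈ augIdeal x) (zero_mem _) (fun y z => add_mem) ?_ z h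
    intro r e he
    refine Submodule.smul_of_tower_mem _ r ?_
    obtain ⟨l, hl⟩ := Finsupp.support_nonempty_iff.mpr he
    rw [hb, ← Finsupp.mul_prod_erase e l (fun i k => x i k) hl]
    exact Ideal.mul_mem_right _ _ (Ideal.subset_span
      ⟨l, e l, Nat.one_le_iff_ne_zero.mpr (Finsupp.mem_support_iff.mp hl), rfl⟩)

/-- `∑ γ_m(b e) Tᵐ` -/
noncomputable def basisSeries (e : Λ →₀ ℕ) : P⟦X⟧ :=
  open scoped Classical in
  if e = 0 then 1 else PowerSeries.mk fun m => (cf e m : P) * b (m • e)

/-- the exponential map -/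
noncomputable def serMap (z : P) : P⟦X⟧ :=
  (b.repr z).prod fun e r => rescale (algebraMap R P r) (basisSeries b e)

theorem coeff_basisSeries {e : Λ →₀ ℕ} (he : e ≠ 0) (m : ℕ) :
    coeff m (basisSeries b e) = (cf e m : P) * b (m • e) := by
  rw [basisSeries, if_neg he, coeff_mk]

include hx0 hxmul hb in
theorem isExp_basisSeries (e : Λ →₀ ℕ) : IsExp (basisSeries b e) := by
  rcases eq_or_ne e 0 with rfl | he
  · rw [basisSeries, if_pos rfl]; exact IsExp.one
  · rw [basisSeries, if_neg he]
    refine isExp_mk _ fun i j => ?_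
    rw [mul_mul_mul_comm, b_mul hx0 hxmul b hb, ← add_smul]
    have := congrArg (Nat.cast (R := P)) (cf_mul_cf he i j)
    push_cast at this
    rw [← mul_assoc, this, mul_assoc]

include hx0 hxmul hb in
theorem coeff_zero_basisSeries (e : Λ →₀ ℕ) : coeff 0 (basisSeries b e) = 1 := by
  rcases eq_or_ne e 0 with rfl | he
  · simp [basisSeries]
  · rw [coeff_basisSeries b he, cf_zero_right, zero_smul, b_zero b hb]; simp

include hx0 hxmul hb in
theorem rescale_zero_series (e : Λ →₀ ℕ) : rescale (0 : P) (basisSeries b e) = 1 := by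
  rw [rescale_zero, RingHom.comp_apply, ← coeff_zero_eq_constantCoeff_apply,
    coeff_zero_basisSeries hx0 hxmul b hb, map_one]

include hx0 hxmul hb in
theorem serMap_add (y z : P) : serMap b (y + z) = serMap b y * serMap b z := by
  classical
  rw [serMap, serMap, serMap, map_add, Finsupp.prod_add_index'
    (fun e => by rw [map_zero, rescale_zero_series hx0 hxmul b hb])
    (fun e r s => by rw [map_add, isExp_basisSeries hx0 hxmul b hb e])]

include hx0 hxmul hb in
theorem serMap_smul_b (r : R) (e : Λ →₀ ℕ) :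
    serMap b (r • b e) = rescale (algebraMap R P r) (basisSeries b e) := by
  classical
  rw [serMap, map_smul, b.repr_self, Finsupp.smul_single, smul_eq_mul, mul_one,
    Finsupp.prod_single_index]
  rw [map_zero, rescale_zero_series hx0 hxmul b hb]

theorem serMap_zero : serMap b 0 = 1 := by simp [serMap]

include hx0 hxmul hb in
theorem coeff_zero_serMap (z : P) : coeff 0 (serMap b z) = 1 := by
  refine induction_all b (Q := fun z => coeff 0 (serMap b z) = 1) (by simp [serMap_zero]) ?_ ?_ z
  · intro y z hy hz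
    rw [serMap_add hx0 hxmul b hb]
    simp only [coeff_zero_eq_constantCoeff, map_mul] at hy hz ⊢
    rw [hy, hz, mul_one]
  · intro r e
    rw [serMap_smul_b hx0 hxmul b hb, coeff_rescale, pow_zero, one_mul,
      coeff_zero_basisSeries hx0 hxmul b hb]

include hx0 hxmul hb in
theorem isExp_serMap (z : P) : IsExp (serMap b z) := by
  refine induction_all b (Q := fun z => IsExp (serMap b z)) (by rw [serMap_zero]; exact IsExp.one)
    (fun y z hy hz => by rw [serMap_add hx0 hxmul b hb]; exact hy.mul hz) ?_ z
  intro r e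
  rw [serMap_smul_b hx0 hxmul b hb]
  exact (isExp_basisSeries hx0 hxmul b hb e).rescale _

include hx0 hxmul hb in
theorem serMap_mul (a z : P) (hz : b.repr z 0 = 0) : serMap b (a * z) = rescale a (serMap b z) := by
  refine induction_aug b (Q := fun z => serMap b (a * z) = rescale a (serMap b z))
    (by simp [serMap_zero]) (fun y z hy hz => by
      rw [mul_add, serMap_add hx0 hxmul b hb, serMap_add hx0 hxmul b hb, hy, hz, map_mul]) ?_ z hz
  intro r e he
  refine induction_all b (Q := fun a => serMap b (a * r • b e) = rescale a (serMap b (r • b e))) ?_ ?_ ?_ a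
  · rw [zero_mul, serMap_zero, rescale_zero, RingHom.comp_apply, ← coeff_zero_eq_constantCoeff_apply,
      coeff_zero_serMap hx0 hxmul b hb, map_one]
  · intro u u' hu hu'
    rw [add_mul, serMap_add hx0 hxmul b hb, hu, hu', isExp_serMap hx0 hxmul b hb]
  · intro s f
    have hne : f + e ≠ 0 := fun h => he (by
      ext i
      have := DFunLike.congr_fun h i
      simp at this ⊢
      omega)
    have e1 := smul_b_mul hx0 hxmul b hb s r f e
    rw [e1, serMap_smul_b hx0 hxmul b hb, serMap_smul_b hx0 hxmul b hb, rescale_rescale]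
    ext m
    rw [coeff_rescale, coeff_rescale, coeff_basisSeries b hne, coeff_basisSeries b he,
      Algebra.smul_def, mul_pow, mul_pow, b_pow hx0 hxmul b hb, map_mul, map_mul, map_natCast,
      mul_pow, mul_pow, smul_add]
    have h3 := congrArg (Nat.cast (R := P)) (cf_add he f m)
    push_cast at h3
    have h4 := b_mul hx0 hxmul b hb (m • f) (m • e)
    linear_combination (algebraMap R P s ^ m * algebraMap R P r ^ m * b (m • f + m • e)) * h3
      - (algebraMap R P s ^ m * algebraMap R P r ^ m * (pw f m : P) * (cf e m : P)) * h4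

include hx0 hxmul hb in
theorem coeff_one_serMap (z : P) (hz : b.repr z 0 = 0) : coeff 1 (serMap b z) = z := by
  refine induction_aug b (Q := fun z => coeff 1 (serMap b z) = z) (by simp [serMap_zero]) ?_ ?_ z hz
  · intro y z hy hz
    rw [serMap_add hx0 hxmul b hb, coeff_one_mul_of_const (coeff_zero_serMap hx0 hxmul b hb y)
      (coeff_zero_serMap hx0 hxmul b hb z), hy, hz]
  · intro r e he
    rw [serMap_smul_b hx0 hxmul b hb, coeff_rescale, pow_one, coeff_basisSeries b he, cf_one_right,
      Nat.cast_one, one_mul, one_smul, Algebra.smul_def]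

include hx0 hxmul hb in
theorem coeff_serMap_mem (z : P) (hz : b.repr z 0 = 0) {n : ℕ} (hn : n ≠ 0) :
    coeff n (serMap b z) ∈ augIdeal x := by
  revert n
  refine induction_aug b (Q := fun z => ∀ {n : ℕ}, n ≠ 0 → coeff n (serMap b z) ∈ augIdeal x)
    (fun {n} hn => by rw [serMap_zero, coeff_one, if_neg hn]; exact zero_mem _) ?_ ?_ z hz
  · intro y z hy hz n hn
    rw [serMap_add hx0 hxmul b hb]
    exact coeff_mul_mem (fun k hk => hy hk) (fun k hk => hz hk) hn
  · intro r e he n hn
    rw [serMap_smul_b hx0 hxmul b hb, coeff_rescale, coeff_basisSeries b he]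
    refine Ideal.mul_mem_left _ _ (Ideal.mul_mem_left _ _ ((mem_aug_iff hx0 hxmul b hb _).mpr ?_))
    classical
    rw [b.repr_self, Finsupp.single_apply, if_neg (smul_ne_zero hn he)]

include hx0 hxmul hb in
theorem existsUnique_dividedPowers :
    ∃! γ : DividedPowers (augIdeal x), ∀ (l : Λ) (n : ℕ), γ.dpow n (x l 1) = x l n := by
  classical
  have key := mem_aug_iff hx0 hxmul b hb
  have hsx : ∀ (l : Λ) (n : ℕ), 1 ≤ n → ∀ m, coeff m (serMap b (x l n)) =
      (cf (Finsupp.single l n) m : P) * x l (m * n) := by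
    intro l n hn m
    have hne : (Finsupp.single l n) ≠ 0 := Finsupp.single_ne_zero.mpr (by omega)
    rw [← b_single b hb hx0 l n, ← one_smul R (b _), serMap_smul_b hx0 hxmul b hb, coeff_rescale,
      map_one, one_pow, one_mul, coeff_basisSeries b hne, Finsupp.smul_single, smul_eq_mul,
      b_single b hb hx0]
  obtain ⟨γ, hγ⟩ := exists_of_series (J := augIdeal x) _ rfl (serMap b)
    (fun z _ => coeff_zero_serMap hx0 hxmul b hb z)
    (fun z hz => coeff_one_serMap hx0 hxmul b hb z ((key z).mp hz))
    (fun z hz n hn => coeff_serMap_mem hx0 hxmul b hb z ((key z).mp hz) hn)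
    (fun y _ z _ => serMap_add hx0 hxmul b hb y z)
    (fun a z hz => serMap_mul hx0 hxmul b hb a z ((key z).mp hz))
    (by
      rintro _ ⟨l, n, hn, rfl⟩ i j
      have hne : (Finsupp.single l n) ≠ 0 := Finsupp.single_ne_zero.mpr (by omega)
      have h3 := congrArg (Nat.cast (R := P)) (cf_mul_cf hne i j)
      push_cast at h3
      have h4 := b_mul hx0 hxmul b hb (i • Finsupp.single l n) (j • Finsupp.single l n)
      rw [← add_smul, Finsupp.smul_single, Finsupp.smul_single, Finsupp.smul_single] at h4
      simp only [smul_eq_mul, b_single b hb hx0] at h4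
      rw [hsx l n hn, hsx l n hn, hsx l n hn]
      simp only [Finsupp.smul_single, smul_eq_mul] at h3
      linear_combination ((cf (Finsupp.single l n) i : P) * (cf (Finsupp.single l n) j : P)) * h4
        + x l ((i + j) * n) * h3)
    (by
      rintro _ ⟨l, n, hn, rfl⟩ m k hk
      have hne : (Finsupp.single l n) ≠ 0 := Finsupp.single_ne_zero.mpr (by omega)
      have h3 := congrArg (Nat.cast (R := P)) (cf_cf hne m hk)
      push_cast at h3
      rw [Finsupp.smul_single, smul_eq_mul] at h3
      have hkn : 1 ≤ k * n := Nat.one_le_iff_ne_zero.mpr (mul_ne_zero hk (by omega))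
      have hmem : b.repr (x l (k * n)) 0 = 0 := (key _).mp (Ideal.subset_span ⟨l, k * n, hkn, rfl⟩)
      rw [hsx l n hn k, serMap_mul hx0 hxmul b hb _ _ hmem, coeff_rescale, hsx l _ hkn, hsx l n hn,
        mul_assoc m k n]
      linear_combination x l (m * (k * n)) * h3)
  have hγx : ∀ (l : Λ) (n : ℕ), γ.dpow n (x l 1) = x l n := by
    intro l n
    have hc : cf (Finsupp.single l 1) n = 1 := by
      have h := cf_mul (e := Finsupp.single l 1) (Finsupp.single_ne_zero.mpr one_ne_zero) n
      simp only [fe, Finsupp.smul_single, smul_eq_mul, mul_one, Finsupp.prod_single_index,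
        Nat.factorial_zero, Nat.factorial_one, one_pow] at h
      exact Nat.eq_of_mul_eq_mul_right (Nat.factorial_pos n) (by rw [h, one_mul])
    rw [hγ n _ (Ideal.subset_span ⟨l, 1, le_rfl, rfl⟩), hsx l 1 le_rfl, hc, mul_one, Nat.cast_one,
      one_mul]
  refine ⟨γ, hγx, fun δ hδ => DividedPowers.ext δ γ fun n z hz => ?_⟩
  refine agree_on_span δ γ _ Ideal.subset_span Ideal.subset_span ?_ z hz n
  rintro _ ⟨l, m, hm, rfl⟩ k
  have h1 : x l 1 ∈ augIdeal x := Ideal.subset_span ⟨l, 1, le_rfl, rfl⟩
  conv_lhs => rw [← hδ l m, δ.dpow_comp (by omega) h1, hδ]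
  conv_rhs => rw [← hγx l m, γ.dpow_comp (by omega) h1, hγx]

end DPowPoly
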