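import Groth.Agent.DPowPoly.Poly
import Groth.Agent.DPowPoly.Extend
import Mathlib.RingTheory.DividedPowers.DPMorphism
import Mathlib.RingTheory.TensorProduct.Free
import Mathlib.Algebra.MvPolynomial.Basic
import Mathlib.Algebra.Algebra.Subalgebra.Basic
import Mathlib.RingTheory.Flat.Basic
import Mathlib.LinearAlgebra.Basis.Basic

universe u v w

namespace DPowPoly

open Finset

section Sup

variable {Λ : Type w} {P : Type v} [CommRing P] {R : Type u} [CommRing R] [Algebra R P]
  {x : Λ → ℕ → P} (hx0 : ∀ l, x l 0 = 1)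
  (hxmul : ∀ l n m, x l n * x l m = ((n + m).choose n : P) * x l (n + m))
  (b : Module.Basis (Λ →₀ ℕ) R P) (hb : ∀ e : Λ →₀ ℕ, b e = e.prod (fun l k => x l k))

include hx0 hxmul hb in
theorem inf_le_smul (I : Ideal R) :
    I.map (algebraMap R P) ⊓ augIdeal x ≤ I.map (algebraMap R P) * augIdeal x := by
  classical
  rintro z ⟨hzI, hzJ⟩
  have hcoef : ∀ y ∈ I.map (algebraMap R P), ∀ e, b.repr y e ∈ I := by
    intro y hy
    induction hy using Submodule.span_induction with
    | mem y hy =>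
      obtain ⟨a, ha, rfl⟩ := hy
      intro e
      rw [Algebra.algebraMap_eq_smul_one, map_smul, Finsupp.smul_apply, smul_eq_mul]
      exact I.mul_mem_right _ ha
    | zero => simp
    | add y y' _ _ hy hy' => intro e; rw [map_add, Finsupp.add_apply]; exact add_mem (hy e) (hy' e)
    | smul c y _ hy =>
      intro e
      rw [smul_eq_mul, ← b.linearCombination_repr y, Finsupp.linearCombination_apply, Finsupp.sum,
        Finset.mul_sum, map_sum, Finsupp.finset_sum_apply]
      refine sum_mem fun f _ => ?_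
      rw [mul_smul_comm, map_smul, Finsupp.smul_apply, smul_eq_mul]
      exact I.mul_mem_right _ (hy f)
  rw [← b.linearCombination_repr z, Finsupp.linearCombination_apply, Finsupp.sum]
  refine sum_mem fun e he => ?_
  rw [Algebra.smul_def]
  refine Ideal.mul_mem_mul (Ideal.mem_map_of_mem _ (hcoef z hzI e)) ?_
  replace hzJ := (mem_aug_iff hx0 hxmul b hb z).mp hzJ
  refine (mem_aug_iff hx0 hxmul b hb _).mpr ?_
  rw [b.repr_self, Finsupp.single_apply, if_neg]
  rintro rfl
  exact Finsupp.mem_support_iff.mp he hzJ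

include hx0 hxmul hb in
theorem existsUnique_compatible {I : Ideal R} (γ : DividedPowers I) (δp : DividedPowers (augIdeal x)) :
    ∃! δ : DividedPowers (I.map (algebraMap R P) ⊔ augIdeal x),
      γ.IsDPMorphism δ (algebraMap R P) ∧
        ∀ (n : ℕ) (y : P), y ∈ augIdeal x → δ.dpow n y = δp.dpow n y := by
  have : Module.Free R P := Module.Free.of_basis b
  obtain ⟨δI, hδI⟩ := exists_extension_of_flat (B := P) γ
  obtain ⟨ε, ⟨hε1, hε2⟩, huniq⟩ := Groth.Agent.DPowLib.existsUnique_sup δI δp fun n y hy =>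
    δI.coincide_on_smul δp (by rw [smul_eq_mul]; exact inf_le_smul hx0 hxmul b hb I hy)
  refine ⟨ε, ⟨⟨le_sup_left, fun {n} a ha => ?_⟩, hε2⟩, ?_⟩
  · rw [hε1 n _ (Ideal.mem_map_of_mem _ ha), hδI.dpow_comp _ ha]
  · rintro δ ⟨hδ1, hδ2⟩
    refine huniq δ ⟨fun n y hy => ?_, hδ2⟩
    refine agree_on_span δ δI (algebraMap R P '' (I : Set R)) ?_ Ideal.subset_span ?_ y hy n
    · exact fun z hz => le_sup_left (a := I.map (algebraMap R P)) (Ideal.subset_span hz)
    · rintro _ ⟨a, ha, rfl⟩ k
      rw [hδ1.dpow_comp _ ha, hδI.dpow_comp _ ha]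

include hx0 hxmul hb in
theorem existsUnique_algHom (γ : DividedPowers (augIdeal x))
    (hγ : ∀ l n, γ.dpow n (x l 1) = x l n)
    (S : Type*) [CommRing S] [Algebra R S] {J : Ideal S} (δ : DividedPowers J) (s : Λ → S)
    (hs : ∀ l, s l ∈ J) :
    ∃! φ : P →ₐ[R] S, γ.IsDPMorphism δ φ.toRingHom ∧ ∀ l, φ (x l 1) = s l := by
  classical
  let y : Λ → ℕ → S := fun l k => δ.dpow k (s l)
  have hy0 : ∀ l, y l 0 = 1 := fun l => δ.dpow_zero (hs l)
  have hymul : ∀ l n m, y l n * y l m = ((n + m).choose n : S) * y l (n + m) := fun l n m =>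
    δ.mul_dpow (hs l)
  let L : P →ₗ[R] S := b.constr R fun e => e.prod fun l k => y l k
  have hL : ∀ e, L (b e) = e.prod fun l k => y l k := fun e => b.constr_basis R _ e
  have hLx : ∀ l n, L (x l n) = y l n := fun l n => by
    rw [← b_single b hb hx0, hL, Finsupp.prod_single_index (hy0 l)]
  have hL1 : L 1 = 1 := by rw [← b_zero b hb, hL, Finsupp.prod_zero_index]
  have hLmul : ∀ u v, L (u * v) = L u * L v := by
    intro u v
    refine induction_all b (Q := fun u => L (u * v) = L u * L v) (by simp)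
      (fun a a' h h' => by rw [add_mul, map_add, map_add, h, h', add_mul]) (fun r e => ?_) u
    refine induction_all b (Q := fun v => L (r • b e * v) = L (r • b e) * L v) (by simp)
      (fun a a' h h' => by rw [mul_add, map_add, map_add, h, h', mul_add]) (fun r' f => ?_) v
    rw [smul_b_mul hx0 hxmul b hb, map_smul, map_smul, map_smul, hL, hL, hL, smul_mul_smul_comm,
      prod_mul_prod y hy0 hymul, mul_smul, Nat.cast_smul_eq_nsmul, nsmul_eq_mul]
  let φ : P →ₐ[R] S := AlgHom.ofLinearMap L hL1 hLmul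
  have hcomp : ∀ (ψ : P →ₐ[R] S), γ.IsDPMorphism δ ψ.toRingHom → (∀ l, ψ (x l 1) = s l) →
      ∀ l n, ψ (x l n) = y l n := fun ψ h h' l n => by
    rw [← hγ l n]
    show ψ.toRingHom (γ.dpow n (x l 1)) = _
    rw [← h.dpow_comp _ (Ideal.subset_span ⟨l, 1, le_rfl, rfl⟩)]
    show δ.dpow n (ψ (x l 1)) = _
    rw [h']
  have hmor : γ.IsDPMorphism δ φ.toRingHom := by
    refine DividedPowers.IsDPMorphism.on_span γ δ (S := {z : P | ∃ (l : Λ) (n : ℕ), 1 ≤ n ∧ z = x l n})
      rfl ?_ (fun {k} z hz => ?_)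
    · rintro _ ⟨l, n, hn, rfl⟩
      show L (x l n) ∈ J
      rw [hLx]
      exact δ.dpow_mem (by omega) (hs l)
    · skip
      obtain ⟨l, n, hn, rfl⟩ := hz
      show L (γ.dpow k (x l n)) = δ.dpow k (L (x l n))
      rw [hLx, ← hγ l n, γ.dpow_comp (by omega) (Ideal.subset_span ⟨l, 1, le_rfl, rfl⟩), hγ,
        hLmul, hLx]
      simp only [y]
      rw [δ.dpow_comp (by omega) (hs l), ← map_natCast φ]
      rfl
  refine ⟨φ, ⟨hmor, fun l => ?_⟩, fun ψ ⟨hψ, hψ'⟩ => ?_⟩
  · show L (x l 1) = s l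
    rw [hLx]; exact δ.dpow_one (hs l)
  · apply AlgHom.toLinearMap_injective
    refine b.ext fun e => ?_
    show ψ (b e) = L (b e)
    rw [hL, hb, map_finsuppProd]
    exact Finsupp.prod_congr fun l _ => hcomp ψ hψ hψ' l _

end Sup

section Construct

variable (t : Type w)

/-- `X^[e] = X^e / e!` -/
noncomputable def vZ (e : t →₀ ℕ) : MvPolynomial (t) ℚ :=
  MvPolynomial.monomial e ((fe e : ℚ)⁻¹)

theorem vZ_mul (e f : t →₀ ℕ) : vZ t e * vZ t f = (bin e f : ℤ) • vZ t (e + f) := by
  rw [vZ, vZ, vZ, MvPolynomial.monomial_mul, natCast_zsmul, ← map_nsmul, nsmul_eq_mul]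
  congr 1
  have h := congrArg (Nat.cast (R := ℚ)) (bin_mul e f)
  push_cast at h
  have h1 : (fe e : ℚ) ≠ 0 := Nat.cast_ne_zero.mpr (fe_pos e).ne'
  have h2 : (fe f : ℚ) ≠ 0 := Nat.cast_ne_zero.mpr (fe_pos f).ne'
  have h3 : (fe (e + f) : ℚ) ≠ 0 := Nat.cast_ne_zero.mpr (fe_pos _).ne'
  field_simp
  linarith

theorem vZ_linearIndependent : LinearIndependent ℤ (vZ t) := by
  classical
  rw [linearIndependent_iff']
  intro s g hg e he
  have h := congrArg (MvPolynomial.coeff e) hg
  rw [MvPolynomial.coeff_sum, Finset.sum_eq_single e] at h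
  · rw [MvPolynomial.coeff_smul, vZ, MvPolynomial.coeff_monomial, if_pos rfl, MvPolynomial.coeff_zero] at h
    have hne : ((fe e : ℚ)⁻¹) ≠ 0 := inv_ne_zero (Nat.cast_ne_zero.mpr (fe_pos e).ne')
    rw [zsmul_eq_mul] at h
    exact_mod_cast (mul_eq_zero.mp h).resolve_right hne
  · intro f _ hf
    rw [MvPolynomial.coeff_smul, vZ, MvPolynomial.coeff_monomial, if_neg hf, smul_zero]
  · exact fun h => absurd he h

/-- the integral divided power polynomial ring -/
noncomputable def PZ : Subalgebra ℤ (MvPolynomial (t) ℚ) :=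
  (Submodule.span ℤ (Set.range (vZ t))).toSubalgebra
    (Submodule.subset_span ⟨0, by simp [vZ, fe_zero]⟩)
    (fun a b ha hb => by
      induction ha using Submodule.span_induction with
      | mem u hu =>
        induction hb using Submodule.span_induction with
        | mem w hw =>
          obtain ⟨e, rfl⟩ := hu
          obtain ⟨f, rfl⟩ := hw
          rw [vZ_mul]
          exact Submodule.smul_mem _ _ (Submodule.subset_span ⟨_, rfl⟩)
        | zero => simp
        | add p q _ _ hp hq => rw [mul_add]; exact add_mem hp hq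
        | smul c p _ hp => rw [mul_smul_comm]; exact Submodule.smul_mem _ _ hp
      | zero => simp
      | add p q _ _ hp hq => rw [add_mul]; exact add_mem hp hq
      | smul c p _ hp => rw [smul_mul_assoc]; exact Submodule.smul_mem _ _ hp)

theorem exists_basisZ :
    ∃ b : Module.Basis (t →₀ ℕ) ℤ (PZ t), ∀ e, (b e : MvPolynomial (t) ℚ) = vZ t e :=
  ⟨Module.Basis.span (vZ_linearIndependent t), fun e =>
    congrArg Subtype.val (Module.Basis.span_apply (vZ_linearIndependent t) e)⟩

variable (A : Type u) [CommRing A]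

theorem exists_dpAlgebra :
    ∃ (P : Type (max u w)) (_ : CommRing P) (_ : Algebra A P) (x : t → ℕ → P)
      (b : Module.Basis (t →₀ ℕ) A P),
      (∀ l, x l 0 = 1) ∧ (∀ l n m, x l n * x l m = ((n + m).choose n : P) * x l (n + m)) ∧
        ∀ e : t →₀ ℕ, b e = e.prod (fun l k => x l k) := by
  classical
  obtain ⟨bz, hbz⟩ := exists_basisZ t
  let xz : t → ℕ → PZ t := fun l k => bz (Finsupp.single l k)
  have hz0 : ∀ l, xz l 0 = 1 := fun l => by
    apply Subtype.ext
    simp [xz, hbz, vZ, fe_zero]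
  have hzmul : ∀ l n m, xz l n * xz l m = ((n + m).choose n : PZ t) * xz l (n + m) := fun l n m => by
    apply Subtype.ext
    push_cast
    rw [hbz, hbz, hbz, vZ_mul, ← Finsupp.single_add, natCast_zsmul, nsmul_eq_mul,
      bin_eq_prod _ _ (s := {l}) Finsupp.support_single_subset Finsupp.support_single_subset,
      Finset.prod_singleton, Finsupp.single_eq_same, Finsupp.single_eq_same]
  have hbzp : ∀ e : t →₀ ℕ, bz e = e.prod (fun l k => xz l k) := fun e => by
    induction e using Finsupp.induction with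
    | zero =>
      rw [Finsupp.prod_zero_index]
      apply Subtype.ext
      simp [hbz, vZ, fe_zero]
    | single_add a n f ha hn ih =>
      have hdisj : Disjoint (Finsupp.single a n).support f.support := by
        rw [Finsupp.support_single_ne_zero _ hn, Finset.disjoint_singleton_left]; exact ha
      rw [Finsupp.prod_add_index_of_disjoint hdisj, Finsupp.prod_single_index (hz0 a), ← ih]
      apply Subtype.ext
      push_cast
      rw [hbz, hbz, hbz, vZ_mul]
      have hb1 : bin (Finsupp.single a n) f = 1 := by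
        rw [bin_eq_prod _ _ (s := {a} ∪ f.support) (Finsupp.support_single_subset.trans
          Finset.subset_union_left) Finset.subset_union_right]
        refine Finset.prod_eq_one fun i _ => ?_
        by_cases hi : i = a
        · subst hi
          rw [Finsupp.notMem_support_iff.mp ha, add_zero, Nat.choose_self]
        · rw [Finsupp.single_eq_of_ne hi, zero_add, Nat.choose_zero_right]
      rw [hb1, Nat.cast_one, one_smul]
  refine ⟨TensorProduct ℤ A (PZ t), inferInstance, inferInstance,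
    fun l k => Algebra.TensorProduct.includeRight (xz l k), Algebra.TensorProduct.basis A bz, ?_, ?_, ?_⟩
  · intro l
    show Algebra.TensorProduct.includeRight (xz l 0) = 1
    rw [hz0, map_one]
  · intro l n m; simp only [← map_mul, hzmul]; rw [map_mul, map_natCast]
  · intro e
    rw [Algebra.TensorProduct.basis_apply]
    show Algebra.TensorProduct.includeRight (bz e) = _
    rw [hbzp e, map_finsuppProd]

end Construct

theorem universal {A : Type u} [CommRing A] {I : Ideal A} (γ : DividedPowers I) (t : ℕ) :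
    ∃ (D : Type u) (_ : CommRing D) (_ : Algebra A D) (J : Ideal D) (δ : DividedPowers J)
      (x : Fin t → D), (∀ i, x i ∈ J) ∧ γ.IsDPMorphism δ (algebraMap A D) ∧
      ∀ (C : Type u) [CommRing C] [Algebra A C] (K : Ideal C) (ε : DividedPowers K),
        γ.IsDPMorphism ε (algebraMap A C) → ∀ k : Fin t → C, (∀ i, k i ∈ K) →
          ∃! φ : D →ₐ[A] C, (∀ i, φ (x i) = k i) ∧ δ.IsDPMorphism ε φ.toRingHom := by
  obtain ⟨P, iP, aP, x, b, hx0, hxmul, hb⟩ := exists_dpAlgebra (Fin t) A
  obtain ⟨γp, hγp, -⟩ := existsUnique_dividedPowers hx0 hxmul b hb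
  obtain ⟨δ, ⟨hδ1, hδ2⟩, -⟩ := existsUnique_compatible hx0 hxmul b hb γ γp
  refine ⟨P, iP, aP, I.map (algebraMap A P) ⊔ augIdeal x, δ, fun i => x i 1,
    fun i => Ideal.mem_sup_right (Ideal.subset_span ⟨i, 1, le_rfl, rfl⟩), hδ1, ?_⟩
  intro C _ _ K ε hε k hk
  obtain ⟨φ, ⟨hφ1, hφ2⟩, huniq⟩ := existsUnique_algHom hx0 hxmul b hb γp hγp C ε k hk
  have hmor : δ.IsDPMorphism ε φ.toRingHom := by
    refine DividedPowers.IsDPMorphism.on_span δ ε
      (S := algebraMap A P '' (I : Set A) ∪ {y : P | ∃ (l : Fin t) (n : ℕ), 1 ≤ n ∧ y = x l n}) ?_ ?_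
      (fun {n} z hz => ?_)
    · rw [Ideal.span_union]; rfl
    · rintro _ (⟨a, ha, rfl⟩ | ⟨l, n, hn, rfl⟩)
      · show φ (algebraMap A P a) ∈ K
        rw [AlgHom.commutes]
        exact hε.ideal_comp (Ideal.mem_map_of_mem _ ha)
      · exact hφ1.ideal_comp (Ideal.mem_map_of_mem _ (Ideal.subset_span ⟨l, n, hn, rfl⟩))
    · obtain (⟨a, ha, rfl⟩ | ⟨l, m, hm, rfl⟩) := hz
      · show φ (δ.dpow n (algebraMap A P a)) = ε.dpow n (φ (algebraMap A P a))
        rw [hδ1.dpow_comp _ ha, AlgHom.commutes, AlgHom.commutes, hε.dpow_comp _ ha]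
      · have hm' : x l m ∈ augIdeal x := Ideal.subset_span ⟨l, m, hm, rfl⟩
        rw [hδ2 _ _ hm']
        exact (hφ1.dpow_comp _ hm').symm
  refine ⟨φ, ⟨hφ2, hmor⟩, fun ψ ⟨hψ1, hψ2⟩ => huniq ψ ⟨⟨?_, ?_⟩, hψ1⟩⟩
  · exact (Ideal.map_mono le_sup_right).trans hψ2.ideal_comp
  · intro n a ha
    rw [← hδ2 n a ha]
    exact hψ2.dpow_comp a (Ideal.mem_sup_right ha)

end DPowPoly
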